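import Cfsg.Agent.Lib.KnownB.ChevGen.Closure

/-!
Two generators of the tabulated Chevalley groups.
-/

set_option autoImplicit false
set_option linter.unusedSectionVars false

namespace CfsgLib.ChevGen

open CfsgLib.Chevalley CfsgLib.Chevalley.Tbl

variable {T : Tbl} {F : Type*} [Field F]

theorem exists_list {n : ℕ} {w : List ℕ} (h : w.all (fun i => Nat.blt i n) = true) :
    ∃ l : List (Fin n), l.map Fin.val = w :=
  ⟨w.pmap Fin.mk fun i hi => Nat.le_of_ble_eq_true (List.all_eq_true.mp h i hi), by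
    simp [List.map_pmap]⟩

variable [Finite F] (hT : T.Valid) (hC : T.chkComm = true)
include hT hC

theorem exists_pair_torus {w : List ℕ} {al be de g : ℕ} {steps : List (ℕ × ℕ × ℕ × ℕ × ℕ)}
    (h : T.chkGenTorus w al be de g steps = true) (hF : ∃ c : F, c ≠ 0 ∧ c ≠ 1) :
    ∃ a ∈ T.datum.group F, ∃ b ∈ T.datum.group F,
      Subgroup.closure ({a, b} : Set (GL T.I F)) = T.datum.group F := by
  classical
  haveI := Fintype.ofFinite F
  simp only [Tbl.chkGenTorus, Bool.and_eq_true, decide_eq_true_eq] at h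
  obtain ⟨⟨⟨⟨⟨⟨⟨⟨⟨hw, hal⟩, hbe⟩, hde⟩, hgn⟩, hperm⟩, hdg⟩, hm⟩, hm'⟩, hrun⟩ := h
  obtain ⟨l, rfl⟩ := exists_list hw
  have hbe : be < T.n := Nat.le_of_ble_eq_true hbe
  have hde : de < T.n := Nat.le_of_ble_eq_true hde
  have hgn : g < T.n := Nat.le_of_ble_eq_true hgn
  have hperm := Nat.eq_of_beq_eq_true hperm
  rw [genPerm_eq hT l ⟨be, hbe⟩] at hperm
  subst hperm
  set al : ℕ := (T.pw hT l ⟨be, hbe⟩).val with hal_def
  have haln : al < T.n := (T.pw hT l ⟨be, hbe⟩).isLt
  obtain ⟨γ, hγ⟩ := IsCyclic.exists_monoid_generator (α := Fˣ)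
  have hγpow : ∀ c : Fˣ, ∃ k : ℕ, γ ^ k = c := fun c => hγ c
  have hunit : ∀ {m : ℤ}, Nat.beq m.natAbs 1 = true → ∀ c : Fˣ, (c ^ m) ^ m = c := by
    intro m hm c
    rcases Int.natAbs_eq m with e | e <;> rw [e, Nat.eq_of_beq_eq_true hm] <;> simp
  have hq := Nat.sub_add_cancel (Fintype.one_lt_card (α := F)).le
  have hγ1 : γ ≠ 1 := by
    rintro rfl
    obtain ⟨c, hc0, hc1⟩ := hF
    obtain ⟨k, hk⟩ := hγpow (Units.mk0 c hc0)
    rw [one_pow] at hk
    exact hc1 (congrArg Units.val hk).symm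
  let d : Fˣ → GL T.I F := fun c => T.dU (T.hCh de c)
  have hdH : ∀ c, d c ∈ T.datum.diagonalSubgroup F := fun c => by
    rw [diagonalSubgroup_eq hT]; exact Subgroup.subset_closure ⟨de, hde, c, rfl⟩
  have hdmul : ∀ a b : Fˣ, d a * d b = d (a * b) := fun a b => by
    show T.dU _ * T.dU _ = T.dU _
    rw [dU_mul, hCh_mul]
  have hdpow : ∀ (c : Fˣ) (k : ℕ), d c ^ k = d (c ^ k) := fun c k => by
    induction k with
    | zero => show _ = T.dU _; rw [pow_zero, pow_zero, hCh_one, dU_one]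
    | succ k ih => rw [pow_succ, ih, hdmul, ← pow_succ]
  have hconj : ∀ (c : Fˣ) {s : ℕ}, s < T.n → ∀ t : F,
      d c * T.xU F s t * (d c)⁻¹ = T.xU F s (((c ^ T.pair de s : Fˣ) : F) * t) := fun c s hs t => by
    show T.dU _ * T.xU F s t * (T.dU _)⁻¹ = _
    rw [dU_hCh_xU hT hde c hs, mul_inv_cancel_right]
  set x := T.xU F al 1 with hx
  set n := T.nw F l with hn
  set a := d γ * T.xU F g 1 with ha
  set b := x * n with hb
  have hnN : n ∈ T.datum.monomialSubgroup F := nw_mem hT l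
  have hbG : b ∈ T.datum.group F := mul_mem (xU_mem_group hT haln 1) (monomial_le_group hT hnN)
  have haG : a ∈ T.datum.group F := mul_mem (diag_le_group hT (hdH γ)) (xU_mem_group hT hgn 1)
  refine ⟨a, haG, b, hbG, ?_⟩
  set H := Subgroup.closure ({a, b} : Set (GL T.I F)) with hH
  have haH : a ∈ H := Subgroup.subset_closure (Set.mem_insert a _)
  have hbH : b ∈ H := Subgroup.subset_closure (Set.mem_insert_of_mem _ rfl)
  refine le_antisymm ((Subgroup.closure_le _).mpr (Set.insert_subset haG (Set.singleton_subset_iff.mpr hbG))) ?_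
  have hcom : Commute (d γ) (T.xU F g 1) := by
    have := hconj γ hgn 1
    rw [hdg, zpow_zero, Units.val_one, one_mul, mul_inv_eq_iff_eq_mul] at this
    exact this
  have hdγ : d γ ∈ H := by
    have hx1 : T.xU F g 1 ^ Fintype.card F = 1 := by
      rw [xU_nsmul hT hgn, mul_one, FiniteField.cast_card_eq_zero, xU_zero hT hgn]
    have hd1 : d γ ^ Fintype.card F = d γ := by
      rw [hdpow, ← hq, pow_succ, show γ ^ (Fintype.card F - 1) = 1 by
        rw [← Fintype.card_units]; exact pow_card_eq_one, one_mul]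
    have := pow_mem haH (Fintype.card F)
    rwa [ha, hcom.mul_pow, hx1, hd1, mul_one] at this
  have hdall : ∀ c, d c ∈ H := fun c => by
    obtain ⟨k, hk⟩ := hγpow c
    rw [← hk, ← hdpow]; exact pow_mem hdγ k
  have hgH : T.xU F g 1 ∈ H := by
    have := mul_mem (inv_mem hdγ) haH
    rwa [ha, inv_mul_cancel_left] at this
  set μ : F := ((γ ^ T.pair de be : Fˣ) : F) with hμ
  have hμ1 : μ ≠ 1 := fun e => hγ1 (by
    have : γ ^ T.pair de be = 1 := Units.ext e
    rw [← hunit hm' γ, this, one_zpow])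
  set h' := n * d γ * n⁻¹ with hh'
  have hh'x : ∀ t, h' * T.xU F al t * h'⁻¹ = T.xU F al (μ * t) := by
    intro t
    obtain ⟨c, hc⟩ := (mono_nw (F := F) hT l).conj ⟨be, hbe⟩
    have e1 : ∀ s, n * T.xU F be s * n⁻¹ = T.xU F al ((c : F) * s) := fun s => by
      rw [show n * T.xU F be s = _ from (hc s).1, mul_inv_cancel_right]
    have e2 := hconj γ hbe (((c⁻¹ : Fˣ) : F) * t)
    calc h' * T.xU F al t * h'⁻¹
        = h' * (n * T.xU F be (((c⁻¹ : Fˣ) : F) * t) * n⁻¹) * h'⁻¹ := by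
          rw [e1, ← mul_assoc, Units.mul_inv, one_mul]
      _ = n * (d γ * T.xU F be (((c⁻¹ : Fˣ) : F) * t) * (d γ)⁻¹) * n⁻¹ := by rw [hh']; group
      _ = T.xU F al (μ * t) := by
          rw [e2, e1, ← hμ]
          congr 1
          rw [mul_left_comm, ← mul_assoc (c : F), Units.mul_inv, one_mul]
  have hh'D : h' ∈ T.datum.diagonalSubgroup F := conj_diag hT hnN (hdH γ)
  have he : b * d γ * b⁻¹ = T.xU F al (1 - μ) * h' := by
    calc b * d γ * b⁻¹ = x * (h' * x⁻¹ * h'⁻¹) * h' := by rw [hb, hh']; group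
      _ = _ := by rw [hx, xU_inv hT haln, hh'x, xU_add hT haln]; congr 2; ring
  have hu : 1 - μ ≠ 0 := sub_ne_zero.mpr (Ne.symm hμ1)
  have hkey : ∀ c : Fˣ, T.xU F al (((c : F) - 1) * (1 - μ)) ∈ H := by
    intro c
    set c' := c ^ T.pair de al with hc'
    have h1 := mul_mem (mul_mem (hdall c') (mul_mem (mul_mem hbH hdγ) (inv_mem hbH))) (inv_mem (hdall c'))
    have h2 := mul_mem h1 (inv_mem (mul_mem (mul_mem hbH hdγ) (inv_mem hbH)))
    rw [he] at h2
    have hcomm : Commute (d c') h' := diag_comm hT (hdH c') hh'D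
    have e3 := hconj c' haln (1 - μ)
    rw [hunit hm c] at e3
    rw [show d c' * (T.xU F al (1 - μ) * h') * (d c')⁻¹ * (T.xU F al (1 - μ) * h')⁻¹ =
      d c' * T.xU F al (1 - μ) * (d c')⁻¹ * (d c' * h' * (d c')⁻¹ * h'⁻¹) * (T.xU F al (1 - μ))⁻¹ by
        group, hcomm.eq, mul_inv_cancel_right, mul_inv_cancel, mul_one, e3, xU_inv hT haln,
      xU_add hT haln] at h2
    convert h2 using 2
    ring
  have halH : Full T F H al := by
    refine ⟨haln, fun t => ?_⟩
    set y := t / (1 - μ) with hy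
    have ht : t = y * (1 - μ) := (div_mul_cancel₀ t hu).symm
    by_cases hy0 : y = 0
    · rw [ht, hy0, zero_mul, xU_zero hT haln]; exact one_mem H
    obtain ⟨c, hc0, hcy⟩ : ∃ c : F, c ≠ 0 ∧ c + y ≠ 0 := by
      by_cases h : 1 + y = 0
      · obtain ⟨c, hc0, hc1⟩ := hF
        exact ⟨c, hc0, fun e => hc1 (by linear_combination e - h)⟩
      · exact ⟨1, one_ne_zero, h⟩
    have := mul_mem (hkey (Units.mk0 (c + y) hcy)) (inv_mem (hkey (Units.mk0 c hc0)))
    rw [Units.val_mk0, Units.val_mk0, xU_inv hT haln, xU_add hT haln] at this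
    rw [ht]
    convert this using 2
    ring
  have hnH : n ∈ H := by
    have := mul_mem (inv_mem (halH.2 1)) hbH
    rwa [hb, hx, inv_mul_cancel_left] at this
  exact genRun_sound hT hC hnH hgH (si := none) (fun i h => absurd h (by simp)) (fun _ => hF)
    (List.forall_mem_singleton.mpr halH) hrun

theorem exists_pair_two {w : List ℕ} {i g : ℕ} {steps : List (ℕ × ℕ × ℕ × ℕ × ℕ)}
    (h : T.chkGenTwo w i g steps = true) (hF : ∀ c : F, c = 0 ∨ c = 1) :
    ∃ a ∈ T.datum.group F, ∃ b ∈ T.datum.group F,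
      Subgroup.closure ({a, b} : Set (GL T.I F)) = T.datum.group F := by
  simp only [Tbl.chkGenTwo, Bool.and_eq_true] at h
  obtain ⟨⟨⟨⟨⟨⟨hw, hi⟩, hg⟩, hrefl⟩, hp⟩, hnil⟩, hrun⟩ := h
  obtain ⟨l, rfl⟩ := exists_list hw
  have hi : i < T.rank := Nat.le_of_ble_eq_true hi
  have hgn : g < T.n := Nat.le_of_ble_eq_true hg
  have hrefl := Nat.eq_of_beq_eq_true hrefl
  have hpn := simple_lt hT hi
  have h2 : (1 : F) + 1 = 0 := (hF _).resolve_right fun e => one_ne_zero (add_eq_left.mp e)
  have hneg : ∀ t : F, -t = t := fun t => by linear_combination (-t) * h2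
  have hU : (-1 : Fˣ) = 1 := Units.ext (by simpa using hneg 1)
  set x := T.xU F (T.simple i) 1 with hx
  set n := T.nU F (T.simple i) 1 with hn
  set y := T.xU F (T.neg (T.simple i)) 1 with hy
  have hnx : n * x = y * n := by
    rw [hn, hx, hy, nU_conj hT hpn, hneg]
  have hnn : n * n = 1 := by rw [hn, nU_sq hT hpn, hU, hCh_one, dU_one]
  have hndef : n = x * y * x := by
    rw [hn, hx, hy, nU, inv_one, hneg]
  set z := x * n with hz
  have hz3 : z ^ 3 = 1 := by
    calc z ^ 3 = x * (n * x) * n * (x * n) := by rw [hz, pow_succ, pow_two]; group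
      _ = x * y * (n * n) * (x * n) := by rw [hnx]; group
      _ = (x * y * x) * n := by rw [hnn]; group
      _ = 1 := by rw [← hndef, hnn]
  have hcx : Commute x (T.xU F g 1) := commute_of_empty hT hC hp hnil 1 1
  have hcn : Commute n (T.xU F g 1) := by
    show n * _ = _ * n
    rw [hn, nU_simple_xU hT hi hgn, hrefl]
    congr 2
    rcases eta_sq hT hi hgn with h' | h' <;> rw [h'] <;> simp [hneg]
  set u := T.xU F g 1 with hu
  have hcz : Commute z u := hcx.mul_left hcn
  have hu2 : u * u = 1 := by rw [hu, xU_add hT hgn, h2, xU_zero hT hgn]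
  set a := z * u with ha
  set b := T.nw F l with hb
  have hxG : x ∈ T.datum.group F := xU_mem_group hT hpn 1
  have haG : a ∈ T.datum.group F :=
    mul_mem (mul_mem hxG (nU_mem_group hT hpn 1)) (xU_mem_group hT hgn 1)
  have hbG : b ∈ T.datum.group F := monomial_le_group hT (nw_mem hT l)
  refine ⟨a, haG, b, hbG, ?_⟩
  set H := Subgroup.closure ({a, b} : Set (GL T.I F)) with hH
  have haH : a ∈ H := Subgroup.subset_closure (Set.mem_insert a _)
  have hbH : b ∈ H := Subgroup.subset_closure (Set.mem_insert_of_mem _ rfl)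
  refine le_antisymm ((Subgroup.closure_le _).mpr (Set.insert_subset haG (Set.singleton_subset_iff.mpr hbG))) ?_
  have huH : u ∈ H := by
    have := pow_mem haH 3
    rwa [ha, hcz.mul_pow, hz3, one_mul, pow_succ, pow_two, hu2, one_mul] at this
  have hzH : z ∈ H := by
    have := mul_mem haH (inv_mem huH)
    rwa [ha, mul_inv_cancel_right] at this
  have hgfull : Full T F H g := ⟨hgn, fun t => by
    rcases hF t with rfl | rfl
    · rw [xU_zero hT hgn]; exact one_mem H
    · exact huH⟩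
  exact genRun_sound hT hC hbH huH (si := some i)
    (fun j hj => by obtain rfl := Option.some.inj hj; exact ⟨hi, hzH⟩) (fun h => absurd h (by simp))
    (List.forall_mem_singleton.mpr hgfull) hrun

omit hT hC in
/-- Two elements with closure `D.group F` give two generators of the subtype. -/
theorem exists_pair_subtype {M : Type*} [Group M] {K : Subgroup M}
    (h : ∃ a ∈ K, ∃ b ∈ K, Subgroup.closure ({a, b} : Set M) = K) :
    ∃ a b : ↥K, Subgroup.closure ({a, b} : Set ↥K) = ⊤ := by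
  obtain ⟨a, ha, b, hb, e⟩ := h
  refine ⟨⟨a, ha⟩, ⟨b, hb⟩, Subgroup.map_injective K.subtype_injective ?_⟩
  rw [MonoidHom.map_closure, Set.image_pair, ← MonoidHom.range_eq_map, Subgroup.range_subtype]
  exact e

end CfsgLib.ChevGen
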