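import Cfsg.Agent.Lib.KnownB.ChevGen.Check
import Cfsg.Agent.Lib.Chevalley.Data.G2
import Cfsg.Agent.Lib.Chevalley.Data.B2
import Cfsg.Agent.Lib.Chevalley.Data.D4
import Cfsg.Agent.Lib.Chevalley.Data.F4
import Cfsg.Agent.Lib.Chevalley.Data.E6
import Cfsg.Agent.Lib.Chevalley.Data.E7
import Cfsg.Agent.Lib.Chevalley.Data.E8

/-!
Derivations for two generators of the tabulated Chevalley groups.
-/

set_option autoImplicit false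
set_option maxRecDepth 20000
set_option Elab.async false

namespace CfsgLib.Chevalley.Data

/-- Derivations for type G2, field with more than two elements. -/
def G2.genStepsTorus : List (ℕ × ℕ × ℕ × ℕ × ℕ) := [
  (0, 1, 6, 0, 0), (0, 0, 1, 0, 0), (0, 5, 0, 0, 0), (0, 10, 5, 0, 0), (0, 11, 10, 0, 0),
  (4, 4, 0, 8, 5), (0, 2, 4, 0, 0), (0, 3, 2, 0, 0), (0, 7, 3, 0, 0), (0, 9, 7, 0, 0),
  (0, 8, 9, 0, 0)]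

theorem G2.genTorus :
    G2.tbl.chkGenTorus [0, 1] 6 11 10 8 G2.genStepsTorus = true := by decide +kernel

/-- Derivations for type B2, field with more than two elements. -/
def B2.genStepsTorus : List (ℕ × ℕ × ℕ × ℕ × ℕ) := [
  (0, 6, 5, 0, 0), (0, 2, 6, 0, 0), (0, 1, 2, 0, 0), (2, 4, 2, 7, 0), (0, 0, 4, 0, 0),
  (0, 3, 0, 0, 0), (0, 7, 3, 0, 0)]

theorem B2.genTorus :
    B2.tbl.chkGenTorus [0, 1] 5 1 4 7 B2.genStepsTorus = true := by decide +kernel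

/-- Derivations for type D4, field with more than two elements. -/
def D4.genStepsTorus : List (ℕ × ℕ × ℕ × ℕ × ℕ) := [
  (0, 14, 18, 0, 0), (0, 22, 14, 0, 0), (0, 5, 22, 0, 0), (0, 9, 5, 0, 0), (0, 1, 9, 0, 0),
  (1, 19, 18, 14, 0), (0, 23, 19, 0, 0), (0, 17, 23, 0, 0), (0, 4, 17, 0, 0), (0, 0, 4, 0, 0),
  (0, 6, 0, 0, 0), (2, 15, 5, 20, 0), (0, 13, 15, 0, 0), (0, 2, 13, 0, 0), (0, 8, 2, 0, 0),
  (0, 10, 8, 0, 0), (0, 21, 10, 0, 0), (1, 20, 18, 15, 0), (0, 16, 20, 0, 0), (0, 12, 16, 0, 0),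
  (0, 3, 12, 0, 0), (0, 7, 3, 0, 0), (0, 11, 7, 0, 0)]

theorem D4.genTorus :
    D4.tbl.chkGenTorus [0, 1, 2, 3] 18 1 14 20 D4.genStepsTorus = true := by decide +kernel

/-- Derivations for type D4, field with two elements. -/
def D4.genStepsTwo : List (ℕ × ℕ × ℕ × ℕ × ℕ) := [
  (0, 3, 12, 0, 0), (0, 7, 3, 0, 0), (5, 8, 3, 0, 0), (0, 11, 7, 0, 0), (0, 10, 8, 0, 0),
  (0, 20, 11, 0, 0), (0, 21, 10, 0, 0), (0, 16, 20, 0, 0), (0, 15, 21, 0, 0), (0, 13, 15, 0, 0),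
  (0, 2, 13, 0, 0), (1, 4, 12, 3, 0), (0, 0, 4, 0, 0), (5, 9, 4, 0, 0), (0, 6, 0, 0, 0),
  (0, 1, 9, 0, 0), (0, 19, 6, 0, 0), (0, 18, 1, 0, 0), (0, 23, 19, 0, 0), (0, 14, 18, 0, 0),
  (0, 17, 23, 0, 0), (0, 22, 14, 0, 0), (0, 5, 22, 0, 0)]

theorem D4.genTwo :
    D4.tbl.chkGenTwo [0, 1, 2, 3] 0 12 D4.genStepsTwo = true := by decide +kernel

/-- Derivations for type F4, field with more than two elements. -/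
def F4.genStepsTorus : List (ℕ × ℕ × ℕ × ℕ × ℕ) := [
  (0, 27, 33, 0, 0), (0, 35, 27, 0, 0), (0, 38, 35, 0, 0), (0, 28, 38, 0, 0), (0, 36, 28, 0, 0),
  (0, 14, 36, 0, 0), (0, 20, 14, 0, 0), (0, 12, 20, 0, 0), (0, 9, 12, 0, 0), (0, 19, 9, 0, 0),
  (0, 11, 19, 0, 0), (1, 34, 33, 27, 0), (0, 37, 34, 0, 0), (0, 44, 37, 0, 0), (0, 40, 44, 0, 0),
  (0, 39, 40, 0, 0), (0, 29, 39, 0, 0), (0, 13, 29, 0, 0), (0, 10, 13, 0, 0), (0, 3, 10, 0, 0),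
  (0, 7, 3, 0, 0), (0, 8, 7, 0, 0), (0, 18, 8, 0, 0), (2, 43, 35, 24, 0), (0, 31, 43, 0, 0),
  (0, 25, 31, 0, 0), (0, 24, 25, 0, 0), (0, 5, 24, 0, 0), (0, 17, 5, 0, 0), (0, 4, 17, 0, 0),
  (0, 16, 4, 0, 0), (0, 22, 16, 0, 0), (0, 23, 22, 0, 0), (0, 42, 23, 0, 0), (0, 30, 42, 0, 0),
  (1, 15, 33, 4, 0), (0, 21, 15, 0, 0), (0, 41, 21, 0, 0), (0, 45, 41, 0, 0), (0, 46, 45, 0, 0),
  (0, 47, 46, 0, 0), (0, 32, 47, 0, 0), (0, 26, 32, 0, 0), (0, 6, 26, 0, 0), (0, 2, 6, 0, 0),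
  (0, 1, 2, 0, 0), (0, 0, 1, 0, 0)]

theorem F4.genTorus :
    F4.tbl.chkGenTorus [0, 1, 2, 3] 33 11 27 24 F4.genStepsTorus = true := by decide +kernel

/-- Derivations for type F4, field with two elements. -/
def F4.genStepsTwo : List (ℕ × ℕ × ℕ × ℕ × ℕ) := [
  (0, 13, 29, 0, 0), (0, 10, 13, 0, 0), (0, 3, 10, 0, 0), (0, 7, 3, 0, 0), (0, 8, 7, 0, 0),
  (0, 18, 8, 0, 0), (5, 9, 8, 0, 0), (0, 34, 18, 0, 0), (0, 19, 9, 0, 0), (6, 0, 9, 0, 8),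
  (0, 37, 34, 0, 0), (5, 35, 34, 0, 0), (0, 11, 19, 0, 0), (5, 20, 19, 0, 0), (0, 15, 0, 0, 0),
  (0, 44, 37, 0, 0), (0, 38, 35, 0, 0), (6, 41, 35, 0, 34), (0, 33, 11, 0, 0), (0, 12, 20, 0, 0),
  (6, 17, 20, 0, 19), (0, 21, 15, 0, 0), (5, 16, 15, 0, 0), (0, 40, 44, 0, 0), (0, 28, 38, 0, 0),
  (5, 39, 38, 0, 0), (0, 45, 41, 0, 0), (0, 27, 33, 0, 0), (0, 4, 17, 0, 0), (5, 23, 21, 0, 0),
  (0, 22, 16, 0, 0), (0, 36, 28, 0, 0), (6, 30, 28, 0, 27), (6, 47, 39, 0, 38), (0, 46, 45, 0, 0),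
  (5, 5, 4, 0, 0), (0, 42, 23, 0, 0), (0, 14, 36, 0, 0), (0, 43, 30, 0, 0), (0, 32, 47, 0, 0),
  (0, 31, 43, 0, 0), (0, 26, 32, 0, 0), (0, 25, 31, 0, 0), (0, 6, 26, 0, 0), (0, 24, 25, 0, 0),
  (0, 2, 6, 0, 0), (0, 1, 2, 0, 0)]

theorem F4.genTwo :
    F4.tbl.chkGenTwo [0, 1, 2, 3] 2 29 F4.genStepsTwo = true := by decide +kernel

/-- Derivations for type E6, field with more than two elements. -/
def E6.genStepsTorus : List (ℕ × ℕ × ℕ × ℕ × ℕ) := [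
  (0, 42, 56, 0, 0), (0, 47, 42, 0, 0), (0, 59, 47, 0, 0), (0, 52, 59, 0, 0), (0, 39, 52, 0, 0),
  (0, 37, 39, 0, 0), (0, 36, 37, 0, 0), (0, 8, 36, 0, 0), (0, 28, 8, 0, 0), (0, 23, 28, 0, 0),
  (0, 11, 23, 0, 0), (1, 57, 56, 42, 0), (0, 50, 57, 0, 0), (0, 64, 50, 0, 0), (0, 69, 64, 0, 0),
  (0, 54, 69, 0, 0), (0, 40, 54, 0, 0), (0, 38, 40, 0, 0), (0, 9, 38, 0, 0), (0, 3, 9, 0, 0),
  (0, 18, 3, 0, 0), (0, 5, 18, 0, 0), (0, 26, 5, 0, 0), (1, 63, 56, 52, 0), (0, 43, 63, 0, 0),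
  (0, 48, 43, 0, 0), (0, 60, 48, 0, 0), (0, 15, 60, 0, 0), (0, 29, 15, 0, 0), (0, 24, 29, 0, 0),
  (0, 12, 24, 0, 0), (0, 19, 12, 0, 0), (0, 32, 19, 0, 0), (0, 34, 32, 0, 0), (0, 35, 34, 0, 0),
  (1, 61, 56, 50, 0), (0, 67, 61, 0, 0), (0, 71, 67, 0, 0), (0, 70, 71, 0, 0), (0, 55, 70, 0, 0),
  (0, 41, 55, 0, 0), (0, 10, 41, 0, 0), (0, 4, 10, 0, 0), (0, 0, 4, 0, 0), (0, 1, 0, 0, 0),
  (0, 16, 1, 0, 0), (0, 30, 16, 0, 0), (1, 65, 56, 54, 0), (0, 44, 65, 0, 0), (0, 49, 44, 0, 0),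
  (0, 25, 49, 0, 0), (0, 13, 25, 0, 0), (0, 20, 13, 0, 0), (0, 6, 20, 0, 0), (0, 27, 6, 0, 0),
  (0, 22, 27, 0, 0), (0, 46, 22, 0, 0), (0, 58, 46, 0, 0), (0, 51, 58, 0, 0), (1, 66, 56, 55, 0),
  (0, 45, 66, 0, 0), (0, 14, 45, 0, 0), (0, 21, 14, 0, 0), (0, 7, 21, 0, 0), (0, 2, 7, 0, 0),
  (0, 17, 2, 0, 0), (0, 31, 17, 0, 0), (0, 33, 31, 0, 0), (0, 62, 33, 0, 0), (0, 68, 62, 0, 0),
  (0, 53, 68, 0, 0)]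

theorem E6.genTorus :
    E6.tbl.chkGenTorus [0, 1, 2, 3, 4, 5] 56 11 45 37 E6.genStepsTorus = true := by decide +kernel

/-- Derivations for type E6, field with two elements. -/
def E6.genStepsTwo : List (ℕ × ℕ × ℕ × ℕ × ℕ) := [
  (0, 8, 36, 0, 0), (0, 28, 8, 0, 0), (5, 19, 8, 0, 0), (0, 23, 28, 0, 0), (0, 32, 19, 0, 0),
  (0, 11, 23, 0, 0), (0, 34, 32, 0, 0), (0, 56, 11, 0, 0), (5, 26, 11, 0, 0), (0, 35, 34, 0, 0),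
  (0, 42, 56, 0, 0), (0, 57, 26, 0, 0), (0, 63, 35, 0, 0), (0, 47, 42, 0, 0), (0, 50, 57, 0, 0),
  (0, 43, 63, 0, 0), (0, 59, 47, 0, 0), (0, 64, 50, 0, 0), (5, 61, 50, 0, 0), (0, 48, 43, 0, 0),
  (5, 58, 43, 0, 0), (0, 52, 59, 0, 0), (0, 69, 64, 0, 0), (0, 67, 61, 0, 0), (0, 60, 48, 0, 0),
  (0, 51, 58, 0, 0), (0, 39, 52, 0, 0), (0, 54, 69, 0, 0), (0, 71, 67, 0, 0), (0, 15, 60, 0, 0),
  (0, 65, 51, 0, 0), (5, 62, 51, 0, 0), (0, 37, 39, 0, 0), (0, 40, 54, 0, 0), (0, 70, 71, 0, 0),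
  (0, 29, 15, 0, 0), (0, 44, 65, 0, 0), (0, 68, 62, 0, 0), (0, 38, 40, 0, 0), (0, 55, 70, 0, 0),
  (0, 24, 29, 0, 0), (0, 49, 44, 0, 0), (0, 53, 68, 0, 0), (0, 9, 38, 0, 0), (0, 41, 55, 0, 0),
  (5, 66, 55, 0, 0), (0, 12, 24, 0, 0), (0, 25, 49, 0, 0), (0, 3, 9, 0, 0), (5, 20, 9, 0, 0),
  (0, 10, 41, 0, 0), (0, 45, 66, 0, 0), (5, 27, 12, 0, 0), (0, 13, 25, 0, 0), (0, 18, 3, 0, 0),
  (0, 6, 20, 0, 0), (0, 4, 10, 0, 0), (5, 21, 10, 0, 0), (0, 14, 45, 0, 0), (0, 22, 27, 0, 0),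
  (0, 5, 18, 0, 0), (5, 17, 6, 0, 0), (0, 0, 4, 0, 0), (0, 7, 21, 0, 0), (0, 46, 22, 0, 0),
  (5, 16, 5, 0, 0), (0, 31, 17, 0, 0), (0, 1, 0, 0, 0), (0, 2, 7, 0, 0), (0, 30, 16, 0, 0),
  (0, 33, 31, 0, 0)]

theorem E6.genTwo :
    E6.tbl.chkGenTwo [0, 1, 2, 3, 4, 5] 0 36 E6.genStepsTwo = true := by decide +kernel

/-- Derivations for type E7, field with more than two elements. -/
def E7.genStepsTorus : List (ℕ × ℕ × ℕ × ℕ × ℕ) := [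
  (0, 73, 93, 0, 0), (0, 79, 73, 0, 0), (0, 96, 79, 0, 0), (0, 85, 96, 0, 0), (0, 105, 85, 0, 0),
  (0, 75, 105, 0, 0), (0, 81, 75, 0, 0), (0, 98, 81, 0, 0), (0, 32, 98, 0, 0), (0, 52, 32, 0, 0),
  (0, 46, 52, 0, 0), (0, 29, 46, 0, 0), (0, 40, 29, 0, 0), (0, 20, 40, 0, 0), (0, 50, 20, 0, 0),
  (0, 44, 50, 0, 0), (0, 27, 44, 0, 0), (1, 94, 93, 73, 0), (0, 83, 94, 0, 0), (0, 103, 83, 0, 0),
  (0, 112, 103, 0, 0), (0, 121, 112, 0, 0), (0, 116, 121, 0, 0), (0, 90, 116, 0, 0), (0, 108, 90, 0, 0),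
  (0, 77, 108, 0, 0), (0, 31, 77, 0, 0), (0, 42, 31, 0, 0), (0, 22, 42, 0, 0), (0, 13, 22, 0, 0),
  (0, 4, 13, 0, 0), (0, 9, 4, 0, 0), (0, 35, 9, 0, 0), (0, 17, 35, 0, 0), (0, 48, 17, 0, 0),
  (1, 101, 93, 85, 0), (0, 111, 101, 0, 0), (0, 87, 111, 0, 0), (0, 106, 87, 0, 0), (0, 114, 106, 0, 0),
  (0, 89, 114, 0, 0), (0, 70, 89, 0, 0), (0, 67, 70, 0, 0), (0, 65, 67, 0, 0), (0, 24, 65, 0, 0),
  (0, 14, 24, 0, 0), (0, 38, 14, 0, 0), (0, 19, 38, 0, 0), (0, 11, 19, 0, 0), (0, 36, 11, 0, 0),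
  (0, 55, 36, 0, 0), (0, 58, 55, 0, 0), (0, 60, 58, 0, 0), (1, 99, 93, 83, 0), (0, 109, 99, 0, 0),
  (0, 119, 109, 0, 0), (0, 125, 119, 0, 0), (0, 124, 125, 0, 0), (0, 123, 124, 0, 0), (0, 118, 123, 0, 0),
  (0, 92, 118, 0, 0), (0, 72, 92, 0, 0), (0, 26, 72, 0, 0), (0, 16, 26, 0, 0), (0, 6, 16, 0, 0),
  (0, 0, 6, 0, 0), (0, 1, 0, 0, 0), (0, 2, 1, 0, 0), (0, 7, 2, 0, 0), (0, 33, 7, 0, 0),
  (0, 53, 33, 0, 0), (2, 97, 96, 64, 0), (0, 86, 97, 0, 0), (0, 69, 86, 0, 0), (0, 66, 69, 0, 0),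
  (0, 64, 66, 0, 0), (0, 63, 64, 0, 0), (0, 23, 63, 0, 0), (0, 51, 23, 0, 0), (0, 45, 51, 0, 0),
  (0, 28, 45, 0, 0), (0, 39, 28, 0, 0), (0, 56, 39, 0, 0), (0, 59, 56, 0, 0), (0, 61, 59, 0, 0),
  (0, 62, 61, 0, 0), (0, 102, 62, 0, 0), (0, 74, 102, 0, 0), (0, 80, 74, 0, 0), (1, 49, 93, 28, 0),
  (0, 43, 49, 0, 0), (0, 78, 43, 0, 0), (0, 95, 78, 0, 0), (0, 84, 95, 0, 0), (0, 104, 84, 0, 0),
  (0, 113, 104, 0, 0), (0, 88, 113, 0, 0), (0, 107, 88, 0, 0), (0, 76, 107, 0, 0), (0, 82, 76, 0, 0),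
  (0, 47, 82, 0, 0), (0, 30, 47, 0, 0), (0, 41, 30, 0, 0), (0, 21, 41, 0, 0), (0, 12, 21, 0, 0),
  (0, 37, 12, 0, 0), (0, 18, 37, 0, 0), (1, 100, 93, 84, 0), (0, 110, 100, 0, 0), (0, 120, 110, 0, 0),
  (0, 115, 120, 0, 0), (0, 122, 115, 0, 0), (0, 117, 122, 0, 0), (0, 91, 117, 0, 0), (0, 71, 91, 0, 0),
  (0, 68, 71, 0, 0), (0, 25, 68, 0, 0), (0, 15, 25, 0, 0), (0, 5, 15, 0, 0), (0, 10, 5, 0, 0),
  (0, 3, 10, 0, 0), (0, 8, 3, 0, 0), (0, 34, 8, 0, 0), (0, 54, 34, 0, 0), (0, 57, 54, 0, 0)]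

theorem E7.genTorus :
    E7.tbl.chkGenTorus [0, 1, 2, 3, 4, 5, 6] 93 27 77 64 E7.genStepsTorus = true := by decide +kernel

/-- Derivations for type E7, field with two elements. -/
def E7.genStepsTwo : List (ℕ × ℕ × ℕ × ℕ × ℕ) := [
  (0, 23, 63, 0, 0), (0, 51, 23, 0, 0), (5, 39, 23, 0, 0), (0, 45, 51, 0, 0), (0, 56, 39, 0, 0),
  (0, 28, 45, 0, 0), (0, 59, 56, 0, 0), (5, 49, 28, 0, 0), (0, 61, 59, 0, 0), (0, 43, 49, 0, 0),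
  (0, 62, 61, 0, 0), (0, 78, 43, 0, 0), (0, 102, 62, 0, 0), (0, 95, 78, 0, 0), (0, 74, 102, 0, 0),
  (0, 84, 95, 0, 0), (0, 80, 74, 0, 0), (0, 104, 84, 0, 0), (5, 100, 84, 0, 0), (0, 97, 80, 0, 0),
  (0, 113, 104, 0, 0), (0, 110, 100, 0, 0), (0, 86, 97, 0, 0), (0, 88, 113, 0, 0), (0, 120, 110, 0, 0),
  (0, 69, 86, 0, 0), (0, 107, 88, 0, 0), (0, 115, 120, 0, 0), (0, 66, 69, 0, 0), (0, 76, 107, 0, 0),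
  (0, 122, 115, 0, 0), (0, 64, 66, 0, 0), (0, 82, 76, 0, 0), (0, 117, 122, 0, 0), (0, 47, 82, 0, 0),
  (0, 91, 117, 0, 0), (0, 30, 47, 0, 0), (0, 71, 91, 0, 0), (0, 41, 30, 0, 0), (0, 68, 71, 0, 0),
  (0, 21, 41, 0, 0), (0, 25, 68, 0, 0), (0, 12, 21, 0, 0), (5, 37, 21, 0, 0), (0, 15, 25, 0, 0),
  (0, 18, 37, 0, 0), (0, 5, 15, 0, 0), (5, 34, 18, 0, 0), (0, 10, 5, 0, 0), (0, 54, 34, 0, 0),
  (0, 3, 10, 0, 0), (0, 57, 54, 0, 0), (0, 8, 3, 0, 0), (1, 24, 63, 23, 0), (0, 14, 24, 0, 0),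
  (5, 40, 24, 0, 0), (0, 38, 14, 0, 0), (0, 20, 40, 0, 0), (0, 19, 38, 0, 0), (0, 50, 20, 0, 0),
  (5, 36, 20, 0, 0), (0, 11, 19, 0, 0), (5, 35, 19, 0, 0), (0, 44, 50, 0, 0), (0, 55, 36, 0, 0),
  (0, 17, 35, 0, 0), (0, 27, 44, 0, 0), (0, 58, 55, 0, 0), (0, 48, 17, 0, 0), (5, 33, 17, 0, 0),
  (0, 93, 27, 0, 0), (0, 60, 58, 0, 0), (0, 94, 48, 0, 0), (0, 53, 33, 0, 0), (0, 73, 93, 0, 0),
  (0, 101, 60, 0, 0), (0, 83, 94, 0, 0), (0, 99, 53, 0, 0), (0, 79, 73, 0, 0), (0, 111, 101, 0, 0),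
  (0, 103, 83, 0, 0), (0, 109, 99, 0, 0), (0, 96, 79, 0, 0), (0, 87, 111, 0, 0), (0, 112, 103, 0, 0),
  (0, 119, 109, 0, 0), (0, 85, 96, 0, 0), (0, 106, 87, 0, 0), (0, 121, 112, 0, 0), (0, 125, 119, 0, 0),
  (0, 105, 85, 0, 0), (0, 114, 106, 0, 0), (0, 116, 121, 0, 0), (0, 124, 125, 0, 0), (0, 75, 105, 0, 0),
  (0, 89, 114, 0, 0), (0, 90, 116, 0, 0), (0, 123, 124, 0, 0), (0, 81, 75, 0, 0), (0, 70, 89, 0, 0),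
  (0, 108, 90, 0, 0), (0, 118, 123, 0, 0), (0, 98, 81, 0, 0), (0, 67, 70, 0, 0), (0, 77, 108, 0, 0),
  (0, 92, 118, 0, 0), (0, 32, 98, 0, 0), (0, 65, 67, 0, 0), (0, 31, 77, 0, 0), (0, 72, 92, 0, 0),
  (0, 52, 32, 0, 0), (0, 42, 31, 0, 0), (0, 26, 72, 0, 0), (0, 46, 52, 0, 0), (0, 22, 42, 0, 0),
  (0, 16, 26, 0, 0), (0, 29, 46, 0, 0), (0, 13, 22, 0, 0), (0, 6, 16, 0, 0), (0, 4, 13, 0, 0),
  (0, 0, 6, 0, 0), (0, 9, 4, 0, 0), (0, 1, 0, 0, 0), (0, 2, 1, 0, 0), (0, 7, 2, 0, 0)]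

theorem E7.genTwo :
    E7.tbl.chkGenTwo [0, 1, 2, 3, 4, 5, 6] 0 63 E7.genStepsTwo = true := by decide +kernel

/-- Derivations for type E8, field with more than two elements. -/
def E8.genStepsTorus : List (ℕ × ℕ × ℕ × ℕ × ℕ) := [
  (0, 135, 162, 0, 0), (0, 142, 135, 0, 0), (0, 165, 142, 0, 0), (0, 149, 165, 0, 0), (0, 176, 149, 0, 0),
  (0, 190, 176, 0, 0), (0, 153, 190, 0, 0), (0, 179, 153, 0, 0), (0, 192, 179, 0, 0), (0, 154, 192, 0, 0),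
  (0, 180, 154, 0, 0), (0, 138, 180, 0, 0), (0, 145, 138, 0, 0), (0, 168, 145, 0, 0), (0, 77, 168, 0, 0),
  (0, 104, 77, 0, 0), (0, 97, 104, 0, 0), (0, 74, 97, 0, 0), (0, 90, 74, 0, 0), (0, 63, 90, 0, 0),
  (0, 49, 63, 0, 0), (0, 86, 49, 0, 0), (0, 60, 86, 0, 0), (0, 47, 60, 0, 0), (0, 85, 47, 0, 0),
  (0, 59, 85, 0, 0), (0, 101, 59, 0, 0), (0, 94, 101, 0, 0), (0, 71, 94, 0, 0), (1, 163, 162, 135, 0),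
  (0, 147, 163, 0, 0), (0, 174, 147, 0, 0), (0, 188, 174, 0, 0), (0, 207, 188, 0, 0), (0, 228, 207, 0, 0),
  (0, 220, 228, 0, 0), (0, 214, 220, 0, 0), (0, 230, 214, 0, 0), (0, 222, 230, 0, 0), (0, 216, 222, 0, 0),
  (0, 201, 216, 0, 0), (0, 159, 201, 0, 0), (0, 183, 159, 0, 0), (0, 140, 183, 0, 0), (0, 76, 140, 0, 0),
  (0, 92, 76, 0, 0), (0, 65, 92, 0, 0), (0, 51, 65, 0, 0), (0, 32, 51, 0, 0), (0, 11, 32, 0, 0),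
  (0, 19, 11, 0, 0), (0, 25, 19, 0, 0), (0, 9, 25, 0, 0), (0, 17, 9, 0, 0), (0, 23, 17, 0, 0),
  (0, 38, 23, 0, 0), (0, 80, 38, 0, 0), (0, 56, 80, 0, 0), (0, 99, 56, 0, 0), (1, 171, 162, 149, 0),
  (0, 186, 171, 0, 0), (0, 206, 186, 0, 0), (0, 194, 206, 0, 0), (0, 210, 194, 0, 0), (0, 229, 210, 0, 0),
  (0, 221, 229, 0, 0), (0, 215, 221, 0, 0), (0, 200, 215, 0, 0), (0, 213, 200, 0, 0), (0, 199, 213, 0, 0),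
  (0, 158, 199, 0, 0), (0, 132, 158, 0, 0), (0, 128, 132, 0, 0), (0, 125, 128, 0, 0), (0, 68, 125, 0, 0),
  (0, 53, 68, 0, 0), (0, 33, 53, 0, 0), (0, 45, 33, 0, 0), (0, 29, 45, 0, 0), (0, 10, 29, 0, 0),
  (0, 18, 10, 0, 0), (0, 24, 18, 0, 0), (0, 39, 24, 0, 0), (0, 26, 39, 0, 0), (0, 40, 26, 0, 0),
  (0, 81, 40, 0, 0), (0, 107, 81, 0, 0), (0, 111, 107, 0, 0), (0, 114, 111, 0, 0), (1, 175, 162, 153, 0),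
  (0, 189, 175, 0, 0), (0, 208, 189, 0, 0), (0, 195, 208, 0, 0), (0, 211, 195, 0, 0), (0, 197, 211, 0, 0),
  (0, 212, 197, 0, 0), (0, 198, 212, 0, 0), (0, 157, 198, 0, 0), (0, 182, 157, 0, 0), (0, 139, 182, 0, 0),
  (0, 146, 139, 0, 0), (0, 98, 146, 0, 0), (0, 75, 98, 0, 0), (0, 91, 75, 0, 0), (0, 64, 91, 0, 0),
  (0, 50, 64, 0, 0), (0, 31, 50, 0, 0), (0, 44, 31, 0, 0), (0, 28, 44, 0, 0), (0, 42, 28, 0, 0),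
  (0, 27, 42, 0, 0), (0, 41, 27, 0, 0), (0, 82, 41, 0, 0), (0, 57, 82, 0, 0), (0, 100, 57, 0, 0),
  (0, 93, 100, 0, 0), (0, 141, 93, 0, 0), (0, 164, 141, 0, 0), (0, 148, 164, 0, 0), (1, 166, 162, 138, 0),
  (0, 150, 166, 0, 0), (0, 177, 150, 0, 0), (0, 137, 177, 0, 0), (0, 144, 137, 0, 0), (0, 167, 144, 0, 0),
  (0, 151, 167, 0, 0), (0, 130, 151, 0, 0), (0, 126, 130, 0, 0), (0, 123, 126, 0, 0), (0, 121, 123, 0, 0),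
  (0, 120, 121, 0, 0), (0, 66, 120, 0, 0), (0, 103, 66, 0, 0), (0, 96, 103, 0, 0), (0, 73, 96, 0, 0),
  (0, 89, 73, 0, 0), (0, 62, 89, 0, 0), (0, 102, 62, 0, 0), (0, 95, 102, 0, 0), (0, 72, 95, 0, 0),
  (0, 88, 72, 0, 0), (0, 109, 88, 0, 0), (0, 113, 109, 0, 0), (0, 116, 113, 0, 0), (0, 118, 116, 0, 0),
  (0, 119, 118, 0, 0), (0, 173, 119, 0, 0), (0, 136, 173, 0, 0), (0, 143, 136, 0, 0), (1, 169, 162, 147, 0),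
  (0, 184, 169, 0, 0), (0, 204, 184, 0, 0), (0, 226, 204, 0, 0), (0, 234, 226, 0, 0), (0, 235, 234, 0, 0),
  (0, 236, 235, 0, 0), (0, 237, 236, 0, 0), (0, 238, 237, 0, 0), (0, 239, 238, 0, 0), (0, 224, 239, 0, 0),
  (0, 218, 224, 0, 0), (0, 203, 218, 0, 0), (0, 161, 203, 0, 0), (0, 134, 161, 0, 0), (0, 70, 134, 0, 0),
  (0, 55, 70, 0, 0), (0, 35, 55, 0, 0), (0, 13, 35, 0, 0), (0, 5, 13, 0, 0), (0, 4, 5, 0, 0),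
  (0, 3, 4, 0, 0), (0, 2, 3, 0, 0), (0, 1, 2, 0, 0), (0, 0, 1, 0, 0), (0, 15, 0, 0, 0),
  (0, 21, 15, 0, 0), (0, 36, 21, 0, 0), (0, 78, 36, 0, 0), (0, 105, 78, 0, 0), (1, 227, 162, 220, 0),
  (0, 219, 227, 0, 0), (0, 233, 219, 0, 0), (0, 232, 233, 0, 0), (0, 225, 232, 0, 0), (0, 231, 225, 0, 0),
  (0, 223, 231, 0, 0), (0, 217, 223, 0, 0), (0, 202, 217, 0, 0), (0, 160, 202, 0, 0), (0, 133, 160, 0, 0),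
  (0, 129, 133, 0, 0), (0, 69, 129, 0, 0), (0, 54, 69, 0, 0), (0, 34, 54, 0, 0), (0, 12, 34, 0, 0),
  (0, 20, 12, 0, 0), (0, 6, 20, 0, 0), (0, 7, 6, 0, 0), (0, 14, 7, 0, 0), (0, 8, 14, 0, 0),
  (0, 16, 8, 0, 0), (0, 22, 16, 0, 0), (0, 37, 22, 0, 0), (0, 79, 37, 0, 0), (0, 106, 79, 0, 0),
  (0, 110, 106, 0, 0), (0, 170, 110, 0, 0), (0, 185, 170, 0, 0), (0, 205, 185, 0, 0), (1, 181, 162, 159, 0),
  (0, 193, 181, 0, 0), (0, 155, 193, 0, 0), (0, 131, 155, 0, 0), (0, 127, 131, 0, 0), (0, 124, 127, 0, 0),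
  (0, 122, 124, 0, 0), (0, 67, 122, 0, 0), (0, 52, 67, 0, 0), (0, 87, 52, 0, 0), (0, 61, 87, 0, 0),
  (0, 48, 61, 0, 0), (0, 30, 48, 0, 0), (0, 43, 30, 0, 0), (0, 83, 43, 0, 0), (0, 58, 83, 0, 0),
  (0, 46, 58, 0, 0), (0, 84, 46, 0, 0), (0, 108, 84, 0, 0), (0, 112, 108, 0, 0), (0, 115, 112, 0, 0),
  (0, 117, 115, 0, 0), (0, 172, 117, 0, 0), (0, 187, 172, 0, 0), (0, 152, 187, 0, 0), (0, 178, 152, 0, 0),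
  (0, 191, 178, 0, 0), (0, 209, 191, 0, 0), (0, 196, 209, 0, 0), (0, 156, 196, 0, 0)]

theorem E8.genTorus :
    E8.tbl.chkGenTorus [0, 1, 2, 3, 4, 5, 6, 7] 162 71 140 121 E8.genStepsTorus = true := by decide +kernel

/-- Derivations for type E8, field with two elements. -/
def E8.genStepsTwo : List (ℕ × ℕ × ℕ × ℕ × ℕ) := [
  (0, 66, 120, 0, 0), (0, 103, 66, 0, 0), (5, 88, 66, 0, 0), (0, 96, 103, 0, 0), (0, 109, 88, 0, 0),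
  (0, 73, 96, 0, 0), (0, 113, 109, 0, 0), (0, 89, 73, 0, 0), (5, 101, 73, 0, 0), (0, 116, 113, 0, 0),
  (0, 62, 89, 0, 0), (0, 94, 101, 0, 0), (0, 118, 116, 0, 0), (0, 102, 62, 0, 0), (5, 84, 62, 0, 0),
  (0, 71, 94, 0, 0), (0, 119, 118, 0, 0), (0, 95, 102, 0, 0), (0, 108, 84, 0, 0), (0, 162, 71, 0, 0),
  (5, 99, 71, 0, 0), (0, 173, 119, 0, 0), (0, 72, 95, 0, 0), (0, 112, 108, 0, 0), (0, 135, 162, 0, 0),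
  (0, 163, 99, 0, 0), (0, 136, 173, 0, 0), (5, 100, 72, 0, 0), (0, 115, 112, 0, 0), (0, 142, 135, 0, 0),
  (0, 147, 163, 0, 0), (0, 143, 136, 0, 0), (5, 164, 136, 0, 0), (0, 93, 100, 0, 0), (0, 117, 115, 0, 0),
  (0, 165, 142, 0, 0), (0, 174, 147, 0, 0), (5, 169, 147, 0, 0), (0, 166, 143, 0, 0), (0, 148, 164, 0, 0),
  (0, 141, 93, 0, 0), (0, 172, 117, 0, 0), (0, 149, 165, 0, 0), (0, 188, 174, 0, 0), (0, 184, 169, 0, 0),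
  (0, 150, 166, 0, 0), (0, 175, 148, 0, 0), (5, 170, 148, 0, 0), (0, 187, 172, 0, 0), (0, 176, 149, 0, 0),
  (5, 171, 149, 0, 0), (0, 207, 188, 0, 0), (0, 204, 184, 0, 0), (0, 177, 150, 0, 0), (0, 189, 175, 0, 0),
  (0, 185, 170, 0, 0), (0, 152, 187, 0, 0), (0, 190, 176, 0, 0), (0, 186, 171, 0, 0), (0, 228, 207, 0, 0),
  (0, 226, 204, 0, 0), (0, 137, 177, 0, 0), (0, 208, 189, 0, 0), (0, 205, 185, 0, 0), (0, 178, 152, 0, 0),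
  (0, 153, 190, 0, 0), (0, 206, 186, 0, 0), (0, 220, 228, 0, 0), (0, 234, 226, 0, 0), (0, 144, 137, 0, 0),
  (0, 195, 208, 0, 0), (0, 227, 205, 0, 0), (0, 191, 178, 0, 0), (0, 179, 153, 0, 0), (0, 194, 206, 0, 0),
  (0, 214, 220, 0, 0), (0, 235, 234, 0, 0), (0, 167, 144, 0, 0), (0, 211, 195, 0, 0), (0, 219, 227, 0, 0),
  (0, 209, 191, 0, 0), (0, 192, 179, 0, 0), (0, 210, 194, 0, 0), (0, 230, 214, 0, 0), (0, 236, 235, 0, 0),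
  (0, 151, 167, 0, 0), (0, 197, 211, 0, 0), (0, 233, 219, 0, 0), (0, 196, 209, 0, 0), (0, 154, 192, 0, 0),
  (0, 229, 210, 0, 0), (0, 222, 230, 0, 0), (0, 237, 236, 0, 0), (0, 130, 151, 0, 0), (0, 212, 197, 0, 0),
  (0, 232, 233, 0, 0), (0, 156, 196, 0, 0), (0, 180, 154, 0, 0), (0, 221, 229, 0, 0), (0, 216, 222, 0, 0),
  (0, 238, 237, 0, 0), (0, 126, 130, 0, 0), (0, 198, 212, 0, 0), (0, 225, 232, 0, 0), (0, 181, 156, 0, 0),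
  (0, 138, 180, 0, 0), (0, 215, 221, 0, 0), (0, 201, 216, 0, 0), (0, 239, 238, 0, 0), (0, 123, 126, 0, 0),
  (0, 157, 198, 0, 0), (0, 231, 225, 0, 0), (0, 193, 181, 0, 0), (0, 145, 138, 0, 0), (0, 200, 215, 0, 0),
  (0, 159, 201, 0, 0), (0, 224, 239, 0, 0), (0, 121, 123, 0, 0), (0, 182, 157, 0, 0), (0, 223, 231, 0, 0),
  (0, 155, 193, 0, 0), (0, 168, 145, 0, 0), (0, 213, 200, 0, 0), (0, 183, 159, 0, 0), (0, 218, 224, 0, 0),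
  (0, 139, 182, 0, 0), (0, 217, 223, 0, 0), (0, 131, 155, 0, 0), (0, 77, 168, 0, 0), (0, 199, 213, 0, 0),
  (0, 140, 183, 0, 0), (0, 203, 218, 0, 0), (0, 146, 139, 0, 0), (0, 202, 217, 0, 0), (0, 127, 131, 0, 0),
  (0, 104, 77, 0, 0), (0, 158, 199, 0, 0), (0, 76, 140, 0, 0), (0, 161, 203, 0, 0), (0, 98, 146, 0, 0),
  (0, 160, 202, 0, 0), (0, 124, 127, 0, 0), (0, 97, 104, 0, 0), (0, 132, 158, 0, 0), (0, 92, 76, 0, 0),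
  (0, 134, 161, 0, 0), (0, 75, 98, 0, 0), (0, 133, 160, 0, 0), (0, 122, 124, 0, 0), (0, 74, 97, 0, 0),
  (0, 128, 132, 0, 0), (0, 65, 92, 0, 0), (0, 70, 134, 0, 0), (0, 91, 75, 0, 0), (0, 129, 133, 0, 0),
  (0, 67, 122, 0, 0), (0, 90, 74, 0, 0), (0, 125, 128, 0, 0), (0, 51, 65, 0, 0), (5, 87, 65, 0, 0),
  (0, 55, 70, 0, 0), (0, 64, 91, 0, 0), (0, 69, 129, 0, 0), (0, 52, 67, 0, 0), (0, 63, 90, 0, 0),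
  (0, 68, 125, 0, 0), (0, 32, 51, 0, 0), (0, 61, 87, 0, 0), (0, 35, 55, 0, 0), (0, 50, 64, 0, 0),
  (5, 86, 64, 0, 0), (0, 54, 69, 0, 0), (0, 49, 63, 0, 0), (5, 85, 63, 0, 0), (0, 53, 68, 0, 0),
  (0, 11, 32, 0, 0), (0, 48, 61, 0, 0), (5, 83, 61, 0, 0), (0, 13, 35, 0, 0), (0, 31, 50, 0, 0),
  (0, 60, 86, 0, 0), (0, 34, 54, 0, 0), (0, 59, 85, 0, 0), (0, 33, 53, 0, 0), (0, 19, 11, 0, 0),
  (5, 18, 11, 0, 0), (0, 30, 48, 0, 0), (0, 58, 83, 0, 0), (0, 5, 13, 0, 0), (5, 20, 13, 0, 0),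
  (0, 44, 31, 0, 0), (0, 47, 60, 0, 0), (5, 82, 60, 0, 0), (0, 12, 34, 0, 0), (5, 81, 59, 0, 0),
  (0, 45, 33, 0, 0), (0, 25, 19, 0, 0), (0, 24, 18, 0, 0), (0, 43, 30, 0, 0), (0, 46, 58, 0, 0),
  (5, 80, 58, 0, 0), (0, 4, 5, 0, 0), (0, 6, 20, 0, 0), (0, 28, 44, 0, 0), (0, 57, 82, 0, 0),
  (0, 107, 81, 0, 0), (0, 29, 45, 0, 0), (0, 9, 25, 0, 0), (0, 39, 24, 0, 0), (0, 56, 80, 0, 0),
  (0, 3, 4, 0, 0), (0, 7, 6, 0, 0), (5, 14, 6, 0, 0), (0, 42, 28, 0, 0), (5, 79, 57, 0, 0),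
  (0, 111, 107, 0, 0), (0, 10, 29, 0, 0), (0, 17, 9, 0, 0), (5, 16, 9, 0, 0), (0, 26, 39, 0, 0),
  (5, 78, 56, 0, 0), (0, 2, 3, 0, 0), (0, 8, 14, 0, 0), (0, 27, 42, 0, 0), (0, 106, 79, 0, 0),
  (0, 114, 111, 0, 0), (0, 23, 17, 0, 0), (0, 22, 16, 0, 0), (0, 40, 26, 0, 0), (0, 105, 78, 0, 0),
  (0, 1, 2, 0, 0), (5, 15, 8, 0, 0), (0, 41, 27, 0, 0), (0, 110, 106, 0, 0), (0, 38, 23, 0, 0),
  (0, 37, 22, 0, 0), (0, 0, 1, 0, 0), (0, 21, 15, 0, 0), (0, 36, 21, 0, 0)]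

theorem E8.genTwo :
    E8.tbl.chkGenTwo [0, 1, 2, 3, 4, 5, 6, 7] 0 120 E8.genStepsTwo = true := by decide +kernel

end CfsgLib.Chevalley.Data
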