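import Cfsg.Agent.Lib.Chevalley.CommCheck

/-!
Derivations of all fundamental root subgroups from a few elements.
-/

set_option autoImplicit false

namespace CfsgLib.Chevalley.Tbl

variable (T : Tbl)

def genMem (S : List ℕ) (v : ℕ) : Bool := S.any (Nat.beq v)

/-- The permutation of a word on root indices. -/
def genPerm (w : List ℕ) (s : ℕ) : ℕ := w.foldr T.refl s

/-- A unique term with target `r`, coefficient `±1` and an allowed shape. -/
def genUniq (r : ℕ) (ts : List (ℕ × ℤ × ℕ × ℕ)) (P : ℕ → ℕ → Bool) : Bool :=
  match ts.filter (fun c => Nat.beq c.1 r) with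
  | [(_, C, i, j)] => Nat.beq C.natAbs 1 && P i j
  | _ => false

/-- All other terms are known. -/
def genRest (S : List ℕ) (r : ℕ) (ts : List (ℕ × ℤ × ℕ × ℕ)) : Bool :=
  ts.all fun c => Nat.beq c.1 r || genMem S c.1

/-- The two roots admit the commutator formula. -/
def genPair (a b : ℕ) : Bool :=
  Nat.blt a T.n && Nat.blt b T.n && !(Nat.beq b a) && !(Nat.beq b (T.neg a))

/-- One derivation `(kind, target, a, b, e)`; `g` is the root of the single element, `si` the index of the
fundamental root of the element of order three, `S` the known roots. -/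
def genStep (w : List ℕ) (g : ℕ) (si : Option ℕ) (S : List ℕ) : ℕ × ℕ × ℕ × ℕ × ℕ → Bool
  | (0, r, a, _, _) => genMem S a && Nat.beq r (T.genPerm w a)
  | (1, r, a, b, _) => genMem S a && genMem S b && T.genPair a b &&
      genUniq r (T.commT a b) (fun i j => Nat.beq i 1 || Nat.beq j 1) && genRest S r (T.commT a b)
  | (2, r, a, b, _) => genMem S a && Nat.beq b g && T.genPair a b &&
      genUniq r (T.commT a b) (fun i _ => Nat.beq i 1 || Nat.beq i 2) && genRest S r (T.commT a b)
  | (4, r, a, b, e) => si.isNone && genMem S a && Nat.beq b g && T.genPair a b &&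
      Nat.blt e T.n && genMem S e && genMem S (T.neg e) &&
      (match T.commT a b with
      | (r1, _, _, _) :: (r2, C, i, _) :: rest =>
        Nat.beq r2 r && Nat.beq C.natAbs 1 && Nat.beq i 1 && rest.all (fun c => genMem S c.1) &&
          decide (T.pair e r1 = 0) && Nat.beq (T.pair e r).natAbs 1
      | _ => false)
  | (5, r, a, _, _) =>
      (match si with
      | none => false
      | some i => genMem S a && Nat.blt a T.n && Nat.beq r (T.refl i a) && T.genPair r (T.simple i) &&
          (T.commT r (T.simple i)).isEmpty)
  | (6, r, a, _, e) =>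
      (match si with
      | none => false
      | some i => genMem S a && genMem S e && Nat.blt a T.n && Nat.beq e (T.refl i a) &&
          T.genPair e (T.simple i) &&
          (T.commT e (T.simple i)).all (fun c => T.genPair c.1 (T.simple i) &&
            (T.commT c.1 (T.simple i)).isEmpty) &&
          genUniq r (T.commT e (T.simple i)) (fun k _ => Nat.beq k 1 || Nat.beq k 2) &&
          genRest S r (T.commT e (T.simple i)))
  | _ => false

/-- Run the derivations. -/
def genRun (w : List ℕ) (g : ℕ) (si : Option ℕ) :
    List (ℕ × ℕ × ℕ × ℕ × ℕ) → List ℕ → Bool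
  | [], S => allLt (fun i => genMem S (T.simple i) && genMem S (T.neg (T.simple i))) T.rank
  | s :: rest, S => T.genStep w g si S s && genRun w g si rest (s.2.1 :: S)

/-- Certificate for fields with more than two elements. -/
def chkGenTorus (w : List ℕ) (al be de g : ℕ) (steps : List (ℕ × ℕ × ℕ × ℕ × ℕ)) : Bool :=
  w.all (fun i => Nat.blt i T.rank) && Nat.blt al T.n && Nat.blt be T.n && Nat.blt de T.n &&
    Nat.blt g T.n && Nat.beq (T.genPerm w be) al && decide (T.pair de g = 0) &&
    Nat.beq (T.pair de al).natAbs 1 && Nat.beq (T.pair de be).natAbs 1 &&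
    T.genRun w g none steps [al]

/-- Certificate for the field with two elements. -/
def chkGenTwo (w : List ℕ) (i g : ℕ) (steps : List (ℕ × ℕ × ℕ × ℕ × ℕ)) : Bool :=
  w.all (fun j => Nat.blt j T.rank) && Nat.blt i T.rank && Nat.blt g T.n &&
    Nat.beq (T.refl i g) g && T.genPair g (T.simple i) && (T.commT g (T.simple i)).isEmpty &&
    T.genRun w g (some i) steps [g]

end CfsgLib.Chevalley.Tbl
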