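import Cfsg.Agent.Lib.KnownB.ChevGen.Check
import Cfsg.Agent.Lib.Chevalley.BN

/-!
Soundness of the derivations of `ChevGen.Check`.
-/

set_option autoImplicit false
set_option linter.unusedSectionVars false

namespace CfsgLib.ChevGen

open CfsgLib.Chevalley CfsgLib.Chevalley.Tbl

variable {T : Tbl} {F : Type*} [Field F]

theorem genMem_iff {S : List ℕ} {v : ℕ} : genMem S v = true ↔ v ∈ S := by
  simp only [genMem, List.any_eq_true]
  exact ⟨fun ⟨x, hx, e⟩ => Nat.eq_of_beq_eq_true e ▸ hx, fun h => ⟨v, h, Nat.beq_refl v⟩⟩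

theorem genPerm_eq (hT : T.Valid) (l : List (Fin T.rank)) (s : Fin T.n) :
    T.genPerm (l.map Fin.val) s.val = (T.pw hT l s).val := by
  induction l with
  | nil => rfl
  | cons i l ih =>
    rw [pw_cons, Equiv.Perm.mul_apply, refP_apply, ← ih]
    rfl

theorem addSubgroup_of_squares [Finite F] (K : AddSubgroup F) (h : ∀ t : F, t ^ 2 ∈ K) (y : F) :
    y ∈ K := by
  by_cases h2 : ringChar F = 2
  · obtain ⟨x, hx⟩ := FiniteField.isSquare_of_char_two h2 y
    rw [hx, ← sq]; exact h x
  · have h20 : (2 : F) ≠ 0 := Ring.two_ne_zero h2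
    have e : y = ((y + 1) / 2) ^ 2 - ((y - 1) / 2) ^ 2 := by field_simp; ring
    rw [e]; exact sub_mem (h _) (h _)

theorem intCast_mul_self {C : ℤ} (h : Nat.beq C.natAbs 1 = true) : (C : F) * (C : F) = 1 := by
  rcases Int.natAbs_eq C with e | e <;> rw [e, Nat.eq_of_beq_eq_true h] <;> norm_num

theorem target_mem {M : Type*} [Group M] (H : Subgroup M) {α : Type*} {l : List α} {p : α → Bool}
    {c : α} (hf : l.filter p = [c]) (g : α → M) (ho : ∀ d ∈ l, p d = false → g d ∈ H)
    (hp : (l.map g).prod ∈ H) : g c ∈ H := by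
  obtain ⟨l₁, l₂, rfl, h1, -, h2⟩ := List.filter_eq_cons_iff.mp hf
  have h1' : (l₁.map g).prod ∈ H := list_prod_mem fun y hy => by
    obtain ⟨d, hd, rfl⟩ := List.mem_map.mp hy
    exact ho d (List.mem_append_left _ hd) (Bool.eq_false_iff.mpr (h1 d hd))
  have h2' : (l₂.map g).prod ∈ H := list_prod_mem fun y hy => by
    obtain ⟨d, hd, rfl⟩ := List.mem_map.mp hy
    exact ho d (List.mem_append_right _ (List.mem_cons_of_mem _ hd))
      (Bool.eq_false_iff.mpr (List.filter_eq_nil_iff.mp h2 d hd))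
  rw [List.map_append, List.map_cons, List.prod_append, List.prod_cons,
    H.mul_mem_cancel_left h1', H.mul_mem_cancel_right h2'] at hp
  exact hp

theorem xU_nsmul (hT : T.Valid) {r : ℕ} (hr : r < T.n) (t : F) (k : ℕ) :
    T.xU F r t ^ k = T.xU F r ((k : F) * t) := by
  induction k with
  | zero => rw [pow_zero, Nat.cast_zero, zero_mul, xU_zero hT hr]
  | succ k ih => rw [pow_succ, ih, xU_add hT hr]; congr 1; push_cast; ring

theorem genUniq_or {r : ℕ} {ts : List (ℕ × ℤ × ℕ × ℕ)} {P Q : ℕ → ℕ → Bool}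
    (h : genUniq r ts (fun i j => P i j || Q i j) = true) :
    genUniq r ts P = true ∨ genUniq r ts Q = true := by
  unfold Tbl.genUniq at h ⊢
  split at h
  · simp only [Bool.and_eq_true, Bool.or_eq_true] at h
    rcases h with ⟨h1, h2 | h2⟩
    · left; simp [h1, h2]
    · right; simp [h1, h2]
  · exact absurd h (by simp)

variable [Finite F] (hT : T.Valid)
include hT

/-- All root elements of the root `r` lie in `H`. -/
def Full (T : Tbl) (F : Type*) [Field F] (H : Subgroup (GL T.I F)) (r : ℕ) : Prop :=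
  r < T.n ∧ ∀ t : F, T.xU F r t ∈ H

theorem full_of_uniq {H : Subgroup (GL T.I F)} {S : List ℕ} {r : ℕ} {ts : List (ℕ × ℤ × ℕ × ℕ)}
    {P : ℕ → ℕ → Bool} (hS : ∀ v ∈ S, Full T F H v) (hu : genUniq r ts P = true)
    (hr : genRest S r ts = true) (hlt : ∀ c ∈ ts, c.1 < T.n) (f : ℕ → ℕ → F → F)
    (hprod : ∀ x, (ts.map fun c => T.xU F c.1 ((c.2.1 : F) * f c.2.2.1 c.2.2.2 x)).prod ∈ H)
    (hspan : ∀ i j, P i j = true → ∀ K : AddSubgroup F, (∀ x, f i j x ∈ K) → ∀ y, y ∈ K) :
    Full T F H r := by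
  unfold Tbl.genUniq at hu
  split at hu
  case h_2 => exact absurd hu (by simp)
  case h_1 v C i j hfilt =>
  simp only [Bool.and_eq_true] at hu
  have hm : (v, C, i, j) ∈ ts.filter (fun c => Nat.beq c.1 r) := by rw [hfilt]; simp
  obtain ⟨hmem, hv⟩ := List.mem_filter.mp hm
  have hv : v = r := Nat.eq_of_beq_eq_true hv
  subst hv
  have hvn : v < T.n := hlt _ hmem
  refine ⟨hvn, fun t => ?_⟩
  have key : ∀ x, T.xU F v ((C : F) * f i j x) ∈ H := fun x =>
    target_mem H hfilt (fun c => T.xU F c.1 ((c.2.1 : F) * f c.2.2.1 c.2.2.2 x)) (fun d hd hdv => by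
      have := List.all_eq_true.mp hr d hd
      simp only [hdv, Bool.false_or] at this
      exact (hS _ (genMem_iff.mp this)).2 _) (hprod x)
  let K : AddSubgroup F :=
    { carrier := {y | T.xU F v ((C : F) * y) ∈ H}
      add_mem' := fun {a b} ha hb => by
        show T.xU F v ((C : F) * (a + b)) ∈ H
        rw [mul_add, ← xU_add hT hvn]; exact mul_mem ha hb
      zero_mem' := by
        show T.xU F v ((C : F) * 0) ∈ H
        rw [mul_zero, xU_zero hT hvn]; exact one_mem H
      neg_mem' := fun {a} ha => by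
        show T.xU F v ((C : F) * -a) ∈ H
        rw [mul_neg, ← xU_inv hT hvn]; exact inv_mem ha }
  have := hspan i j hu.2 K key ((C : F) * t)
  change T.xU F v ((C : F) * ((C : F) * t)) ∈ H at this
  rwa [← mul_assoc, intCast_mul_self hu.1, one_mul] at this

variable (hC : T.chkComm = true)
include hC

theorem comm_prod_mem {H : Subgroup (GL T.I F)} {a b : ℕ} (hp : T.genPair a b = true) {t u : F}
    (h1 : T.xU F a t ∈ H) (h2 : T.xU F b u ∈ H) :
    ((T.commT a b).map fun c => T.xU F c.1 ((c.2.1 : F) * ((-t) ^ c.2.2.1 * u ^ c.2.2.2))).prod ∈ H := by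
  simp only [Tbl.genPair, Bool.and_eq_true, Bool.not_eq_true'] at hp
  obtain ⟨⟨⟨ha, hb⟩, hab⟩, hneg⟩ := hp
  have h := mul_mem h2 h1
  rw [comm_xU hT hC (Nat.le_of_ble_eq_true ha) (Nat.le_of_ble_eq_true hb)
    (fun e => by subst e; simp at hab) (fun e => by subst e; simp at hneg),
    H.mul_mem_cancel_left (mul_mem h1 h2)] at h
  simpa only [mul_assoc] using h

omit hC in
theorem pair_lt {a b : ℕ} (hp : T.genPair a b = true) :
    a < T.n ∧ b < T.n ∧ b ≠ a ∧ b ≠ T.neg a := by
  simp only [Tbl.genPair, Bool.and_eq_true, Bool.not_eq_true'] at hp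
  obtain ⟨⟨⟨ha, hb⟩, hab⟩, hneg⟩ := hp
  exact ⟨Nat.le_of_ble_eq_true ha, Nat.le_of_ble_eq_true hb, fun e => by subst e; simp at hab,
    fun e => by subst e; simp at hneg⟩

theorem commute_of_empty {a b : ℕ} (hp : T.genPair a b = true) (he : (T.commT a b).isEmpty = true)
    (t u : F) : Commute (T.xU F b u) (T.xU F a t) := by
  obtain ⟨ha, hb, hab, hneg⟩ := pair_lt hT hp
  have h := comm_xU (F := F) hT hC ha hb hab hneg t u
  rw [List.isEmpty_iff.mp he, List.map_nil, List.prod_nil, mul_one] at h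
  exact h

variable {H : Subgroup (GL T.I F)} {l : List (Fin T.rank)} (hn : T.nw F l ∈ H)
  {g : ℕ} (hg : T.xU F g 1 ∈ H) {si : Option ℕ}
  (hz : ∀ i, si = some i → i < T.rank ∧ T.xU F (T.simple i) 1 * T.nU F (T.simple i) 1 ∈ H)
  (hF : si = none → ∃ c : F, c ≠ 0 ∧ c ≠ 1)
include hn hg hz hF

theorem genStep_sound {S : List ℕ} (hS : ∀ v ∈ S, Full T F H v) {st : ℕ × ℕ × ℕ × ℕ × ℕ}
    (h : T.genStep (l.map Fin.val) g si S st = true) : Full T F H st.2.1 := by
  obtain ⟨k, r, a, b, e⟩ := st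
  show Full T F H r
  match k, h with
  | 0, h =>
    simp only [Tbl.genStep, Bool.and_eq_true] at h
    obtain ⟨han, ha⟩ := hS a (genMem_iff.mp h.1)
    have hr := Nat.eq_of_beq_eq_true h.2
    rw [genPerm_eq hT l ⟨a, han⟩] at hr
    subst hr
    refine ⟨Fin.isLt _, fun t => ?_⟩
    obtain ⟨c, hc⟩ := (mono_nw (F := F) hT l).conj ⟨a, han⟩
    have := mul_mem (mul_mem hn (ha (((c⁻¹ : Fˣ) : F) * t))) (inv_mem hn)
    rwa [show T.nw F l * T.xU F a (((c⁻¹ : Fˣ) : F) * t) = _ from (hc _).1, mul_inv_cancel_right,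
      ← mul_assoc, Units.mul_inv, one_mul] at this
  | 1, h =>
    simp only [Tbl.genStep, Bool.and_eq_true] at h
    obtain ⟨⟨⟨⟨ha, hb⟩, hp⟩, hu⟩, hr⟩ := h
    obtain ⟨han, hbn, -, -⟩ := pair_lt hT hp
    have ha' := (hS a (genMem_iff.mp ha)).2
    have hb' := (hS b (genMem_iff.mp hb)).2
    rcases genUniq_or hu with hu | hu
    · refine full_of_uniq hT hS hu hr (commT_lt hT han hbn) (fun i j (x : F) => x ^ i * 1 ^ j)
        (fun x => ?_) (fun i j hij K hK y => ?_)
      · simpa only [neg_neg] using comm_prod_mem hT hC hp (ha' (-x)) (hb' 1)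
      · obtain rfl := Nat.eq_of_beq_eq_true hij
        simpa using hK y
    · refine full_of_uniq hT hS hu hr (commT_lt hT han hbn) (fun i j (x : F) => 1 ^ i * x ^ j)
        (fun x => ?_) (fun i j hij K hK y => ?_)
      · simpa only [neg_neg] using comm_prod_mem hT hC hp (ha' (-1)) (hb' x)
      · obtain rfl := Nat.eq_of_beq_eq_true hij
        simpa using hK y
  | 2, h =>
    simp only [Tbl.genStep, Bool.and_eq_true] at h
    obtain ⟨⟨⟨⟨ha, hb⟩, hp⟩, hu⟩, hr⟩ := h
    obtain ⟨han, hbn, -, -⟩ := pair_lt hT hp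
    have ha' := (hS a (genMem_iff.mp ha)).2
    obtain rfl := Nat.eq_of_beq_eq_true hb
    refine full_of_uniq hT hS hu hr (commT_lt hT han hbn) (fun i j (x : F) => x ^ i * 1 ^ j)
      (fun x => ?_) (fun i j hij K hK y => ?_)
    · simpa only [neg_neg] using comm_prod_mem hT hC hp (ha' (-x)) hg
    · rcases Bool.or_eq_true _ _ |>.mp hij with hij | hij <;> obtain rfl := Nat.eq_of_beq_eq_true hij
      · simpa using hK y
      · exact addSubgroup_of_squares K (fun t => by simpa using hK t) y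
  | 4, h =>
    simp only [Tbl.genStep, Bool.and_eq_true] at h
    obtain ⟨⟨⟨⟨⟨⟨⟨hsi, ha⟩, hb⟩, hp⟩, he⟩, hemem⟩, hnemem⟩, hm⟩ := h
    obtain ⟨han, hbn, -, -⟩ := pair_lt hT hp
    have hen : e < T.n := Nat.le_of_ble_eq_true he
    have ha' := (hS a (genMem_iff.mp ha)).2
    obtain rfl := Nat.eq_of_beq_eq_true hb
    split at hm
    case h_2 => exact absurd hm (by simp)
    case h_1 r1 C1 i1 j1 r2 C i j2 rest hterms =>
    simp only [Bool.and_eq_true, decide_eq_true_eq] at hm
    obtain ⟨⟨⟨⟨⟨hr2, hC1⟩, hi⟩, hrest⟩, hp1⟩, hp2⟩ := hm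
    obtain rfl := Nat.eq_of_beq_eq_true hr2
    obtain rfl := Nat.eq_of_beq_eq_true hi
    have hlt := commT_lt hT han hbn
    rw [hterms] at hlt
    have hr1n : r1 < T.n := hlt _ (List.mem_cons_self ..)
    have hrn : r2 < T.n := hlt (r2, C, 1, j2) (List.mem_cons_of_mem _ (List.mem_cons_self ..))
    obtain ⟨c, hc0, hc1⟩ := hF (Option.isNone_iff_eq_none.mp hsi)
    set cu : Fˣ := Units.mk0 c hc0 with hcu
    have hh : T.dU (T.hCh e cu) ∈ H := by
      have hnt : ∀ t : F, T.nU F e t ∈ H := fun t =>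
        mul_mem (mul_mem ((hS e (genMem_iff.mp hemem)).2 _) ((hS _ (genMem_iff.mp hnemem)).2 _))
          ((hS e (genMem_iff.mp hemem)).2 _)
      rw [← hU_eq hT hen cu]
      exact mul_mem (hnt _) (hnt _)
    refine ⟨hrn, fun t => ?_⟩
    have key : ∀ x : F, T.xU F r2 ((((cu ^ T.pair e r2 : Fˣ) : F) - 1) * ((C : F) * x)) ∈ H := fun x => by
      have hz' : T.xU F r1 ((C1 : F) * (x ^ i1 * 1 ^ j1)) * T.xU F r2 ((C : F) * x) ∈ H := by
        have := comm_prod_mem hT hC hp (ha' (-x)) hg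
        rw [hterms] at this
        simp only [List.map_cons, List.prod_cons, neg_neg, ← mul_assoc] at this
        rw [H.mul_mem_cancel_right (list_prod_mem fun y hy => by
          obtain ⟨d, hd, rfl⟩ := List.mem_map.mp hy
          exact (hS _ (genMem_iff.mp (List.all_eq_true.mp hrest d hd))).2 _)] at this
        simpa [mul_assoc] using this
      have h' := mul_mem (mul_mem (mul_mem (inv_mem hz') hh) hz') (inv_mem hh)
      have e1 := dU_hCh_xU hT hen cu hr1n ((C1 : F) * (x ^ i1 * 1 ^ j1))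
      rw [hp1, zpow_zero, Units.val_one, one_mul] at e1
      have e2 := dU_hCh_xU hT hen cu hrn ((C : F) * x)
      set A := T.xU F r1 ((C1 : F) * (x ^ i1 * 1 ^ j1))
      set B := T.xU F r2 ((C : F) * x)
      set d := T.dU (T.hCh e cu)
      rw [show (A * B)⁻¹ * d * (A * B) * d⁻¹ = B⁻¹ * (A⁻¹ * (d * A)) * B * d⁻¹ by group, e1,
        inv_mul_cancel_left, mul_assoc B⁻¹ d B, e2, ← mul_assoc, mul_inv_cancel_right,
        xU_inv hT hrn, xU_add hT hrn] at h'
      convert h' using 2
      ring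
    have hne : ((cu ^ T.pair e r2 : Fˣ) : F) - 1 ≠ 0 := by
      rw [sub_ne_zero]
      intro h1
      have h1' : cu ^ T.pair e r2 = 1 := Units.ext h1
      apply hc1
      have : cu = 1 := by
        rcases Int.natAbs_eq (T.pair e r2) with e3 | e3 <;>
          rw [e3, Nat.eq_of_beq_eq_true hp2] at h1' <;> simpa using h1'
      exact congrArg Units.val this
    have := key ((C : F) * (t / (((cu ^ T.pair e r2 : Fˣ) : F) - 1)))
    rwa [← mul_assoc (C : F), intCast_mul_self hC1, one_mul, mul_div_cancel₀ _ hne] at this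
  | 5, h =>
    cases si with
    | none => simp [Tbl.genStep] at h
    | some i =>
      simp only [Tbl.genStep, Bool.and_eq_true] at h
      obtain ⟨⟨⟨⟨ha, han⟩, hr⟩, hp⟩, he⟩ := h
      obtain ⟨hi, hzi⟩ := hz i rfl
      obtain ⟨hrn, hpn, -, -⟩ := pair_lt hT hp
      obtain rfl := Nat.eq_of_beq_eq_true hr
      refine ⟨hrn, fun t => ?_⟩
      have han' : a < T.n := Nat.le_of_ble_eq_true han
      have hee : (T.eta i a : F) * (T.eta i a : F) = 1 := by
        rcases eta_sq hT hi han' with h' | h' <;> simp [h']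
      have := mul_mem (mul_mem hzi ((hS a (genMem_iff.mp ha)).2 ((T.eta i a : F) * t))) (inv_mem hzi)
      rw [mul_assoc (T.xU F (T.simple i) 1), nU_simple_xU hT hi han', ← mul_assoc (T.eta i a : F), hee,
        one_mul, ← mul_assoc, (commute_of_empty hT hC hp he t (1 : F)).eq, mul_assoc (T.xU F _ t),
        mul_inv_cancel_right] at this
      exact this
  | 6, h =>
    cases si with
    | none => simp [Tbl.genStep] at h
    | some i =>
      simp only [Tbl.genStep, Bool.and_eq_true, List.all_eq_true] at h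
      obtain ⟨⟨⟨⟨⟨⟨⟨ha, he⟩, han⟩, hea⟩, hp⟩, hall⟩, hu⟩, hr⟩ := h
      obtain ⟨hi, hzi⟩ := hz i rfl
      obtain ⟨hen, hpn, hpe, hpne⟩ := pair_lt hT hp
      obtain rfl := Nat.eq_of_beq_eq_true hea
      refine full_of_uniq hT hS hu hr (commT_lt hT hen hpn) (fun k j (x : F) => x ^ k * 1 ^ j)
        (fun x => ?_) (fun k j hij K hK y => ?_)
      · have han' : a < T.n := Nat.le_of_ble_eq_true han
        have hee : (T.eta i a : F) * (T.eta i a : F) = 1 := by
          rcases eta_sq hT hi han' with h' | h' <;> simp [h']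
        have h1 := mul_mem (mul_mem hzi ((hS a (genMem_iff.mp ha)).2 ((T.eta i a : F) * -x))) (inv_mem hzi)
        have e := comm_xU (F := F) hT hC hen hpn hpe hpne (-x) 1
        set P := ((T.commT (T.refl i a) (T.simple i)).map fun c =>
          T.xU F c.1 ((c.2.1 : F) * (- -x) ^ c.2.2.1 * 1 ^ c.2.2.2)).prod with hP
        have hcm : Commute (T.xU F (T.simple i) 1) P := Commute.list_prod_right _ _ fun y hy => by
          obtain ⟨d, hd, rfl⟩ := List.mem_map.mp hy
          exact commute_of_empty hT hC (hall d hd).1 (hall d hd).2 _ _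
        have h2 : T.xU F (T.refl i a) (-x) * P ∈ H := by
          rw [mul_assoc (T.xU F (T.simple i) 1), nU_simple_xU hT hi han', ← mul_assoc (T.eta i a : F),
            hee, one_mul, ← mul_assoc, e, mul_assoc _ (T.xU F (T.simple i) 1) P, hcm.eq,
            ← mul_assoc, mul_assoc _ (T.xU F (T.simple i) 1) (T.nU F (T.simple i) 1),
            mul_inv_cancel_right] at h1
          exact h1
        rw [H.mul_mem_cancel_left ((hS _ (genMem_iff.mp he)).2 _)] at h2
        simpa only [hP, neg_neg, mul_assoc] using h2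
      · rcases Bool.or_eq_true _ _ |>.mp hij with hij | hij <;> obtain rfl := Nat.eq_of_beq_eq_true hij
        · simpa using hK y
        · exact addSubgroup_of_squares K (fun t => by simpa using hK t) y
  | 3, h => simp [Tbl.genStep] at h
  | k + 7, h => simp [Tbl.genStep] at h

/-- The derivations give all fundamental root subgroups, hence the whole group. -/
theorem genRun_sound : ∀ {steps : List (ℕ × ℕ × ℕ × ℕ × ℕ)} {S : List ℕ},
    (∀ v ∈ S, Full T F H v) → T.genRun (l.map Fin.val) g si steps S = true → T.datum.group F ≤ H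
  | [], S, hS, h => by
    rw [group_eq hT]
    refine (Subgroup.closure_le _).mpr ?_
    have hgen : ∀ i < T.rank, (∀ t, T.xU F (T.simple i) t ∈ H) ∧
        ∀ t, T.xU F (T.neg (T.simple i)) t ∈ H := fun i hi => by
      have := allLt_iff.mp h i hi
      simp only [Bool.and_eq_true] at this
      exact ⟨(hS _ (genMem_iff.mp this.1)).2, (hS _ (genMem_iff.mp this.2)).2⟩
    rintro _ ⟨r, hr, t, rfl⟩
    obtain ⟨i, hi, k, e, hk, ⟨he, h1, -⟩, -⟩ := exists_carries (F := F) hT r hr
    have hkH : k ∈ H := by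
      refine (Subgroup.closure_le _).mpr ?_ hk
      rintro _ ⟨j, hj, rfl⟩
      exact mul_mem (mul_mem ((hgen j hj).1 _) ((hgen j hj).2 _)) ((hgen j hj).1 _)
    have hee : e * e = 1 := by rcases he with rfl | rfl <;> norm_num
    have : T.xU F r t = k * T.xU F (T.simple i) (e * t) * k⁻¹ := by
      rw [h1, ← mul_assoc e, hee, one_mul, mul_inv_cancel_right]
    rw [this]
    exact mul_mem (mul_mem hkH ((hgen i hi).1 _)) (inv_mem hkH)
  | s :: rest, S, hS, h => by
    simp only [Tbl.genRun, Bool.and_eq_true] at h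
    refine genRun_sound (List.forall_mem_cons.mpr ⟨genStep_sound hT hC hn hg hz hF hS h.1, hS⟩) h.2

end CfsgLib.ChevGen
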